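import Cfsg.Agent.H411.PrA.Defs
import Cfsg.Agent.S3620

/-!
# S3618, part A: the case of a prime number of fixed points (PF, plan section 3.1) (helper805)
-/

set_option autoImplicit false

open Equiv Equiv.Perm MulAction Cfsg.Agent.H411.PrA

namespace Cfsg.Agent.H805.PrA

universe u

section

variable {Ω : Type u}

/-- A normal subgroup of a group transitive on a set of prime size is trivial or transitive on it. -/
theorem trivial_or_trans (N H : Subgroup (Perm Ω)) (X : Set Ω) (hp : X.ncard.Prime)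
    (hNX : ∀ n ∈ N, ∀ a ∈ X, n a ∈ X) (htr : ∀ a ∈ X, ∀ b ∈ X, ∃ n ∈ N, n a = b) (hHN : H ≤ N)
    (hn : ∀ n ∈ N, ∀ y ∈ H, n * y * n⁻¹ ∈ H) :
    (∀ y ∈ H, ∀ a ∈ X, y a = a) ∨ (∀ a ∈ X, ∀ b ∈ X, ∃ y ∈ H, y a = b) := by
  let XS : SubMulAction N Ω := { carrier := X, smul_mem' := fun n a ha => hNX n n.2 a ha }
  have h1 : IsPretransitive N XS := by
    refine ⟨fun a b => ?_⟩
    obtain ⟨n, hn, hab⟩ := htr a a.2 b b.2
    exact ⟨⟨n, hn⟩, Subtype.ext hab⟩
  have hcard : Nat.card XS = X.ncard := rfl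
  have h2 : IsPreprimitive N XS := IsPreprimitive.of_prime_card (by rw [hcard]; exact hp)
  have h3 : (H.subgroupOf N).Normal := by
    refine ⟨fun y hy n => ?_⟩
    exact hn n n.2 y hy
  by_cases hfix : fixedPoints (H.subgroupOf N) XS = Set.univ
  · left
    intro y hy a ha
    have h4 : (⟨a, ha⟩ : XS) ∈ fixedPoints (H.subgroupOf N) XS := by rw [hfix]; trivial
    have h5 := h4 ⟨⟨y, hHN hy⟩, hy⟩
    exact congrArg Subtype.val h5
  · right
    intro a ha b hb
    have h4 : IsPretransitive (H.subgroupOf N) XS := IsQuasiPreprimitive.isPretransitive_of_normal hfix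
    obtain ⟨y, hy⟩ := h4.exists_smul_eq (⟨a, ha⟩ : XS) ⟨b, hb⟩
    exact ⟨((y : N) : Perm Ω), y.2, congrArg Subtype.val hy⟩

variable [Fintype Ω] [DecidableEq Ω]

/-- A small Jordan set for the primitive group `K` makes it `2`-transitive. -/
theorem two_of_jordan (K : Subgroup (Perm Ω)) (hK : IsPreprimitive K Ω) (X : Set Ω) (h1 : 1 < X.ncard)
    (h2 : 2 * X.ncard < Fintype.card Ω) (Z : Subgroup (Perm Ω)) (hZK : Z ≤ K) (hZ : ∀ z ∈ Z, ∀ a, a ∉ X → z a = a)
    (htr : ∀ a ∈ X, ∀ b ∈ X, ∃ z ∈ Z, z a = b) : IsMultiplyPretransitive K Ω 2 := by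
  have hqp : ∀ N : Subgroup K, N.Normal → N ≠ ⊥ → IsPretransitive ↥N Ω := by
    intro N hN hne
    apply IsQuasiPreprimitive.isPretransitive_of_normal
    intro hfix
    apply hne
    rw [eq_bot_iff]
    intro n hn
    rw [Subgroup.mem_bot]
    apply Subtype.ext
    ext a
    have h3 : a ∈ fixedPoints N Ω := by rw [hfix]; trivial
    exact h3 ⟨n, hn⟩
  have hJ : IsPretransitive ↥(fixingSubgroup K Xᶜ) ↥(SubMulAction.ofFixingSubgroup K Xᶜ) := by
    refine ⟨fun a b => ?_⟩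
    have ha : (a : Ω) ∈ X := by
      by_contra h
      exact a.2 h
    have hb : (b : Ω) ∈ X := by
      by_contra h
      exact b.2 h
    obtain ⟨z, hz, hab⟩ := htr a ha b hb
    refine ⟨⟨⟨z, hZK hz⟩, ?_⟩, Subtype.ext hab⟩
    rw [mem_fixingSubgroup_iff]
    intro c hc
    exact hZ z hz c hc
  have h3 := Cfsg.Agent.S3620.result (G := K) hqp X h1 h2 hJ
  have h4 : IsMultiplyPretransitive (alternatingGroup Ω) Ω 2 := by
    have h5 := alternatingGroup.isMultiplyPretransitive Ω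
    have hc : Nat.card Ω = Fintype.card Ω := Nat.card_eq_fintype_card
    exact isMultiplyPretransitive_of_le (n := Nat.card Ω - 2) (by omega) (by omega)
  rw [is_two_pretransitive_iff] at h4 ⊢
  intro a b c d hab hcd
  obtain ⟨g, hg1, hg2⟩ := h4 hab hcd
  obtain ⟨k, hk⟩ := h3 g (mem_alternatingGroup.1 g.2)
  refine ⟨k, ?_, ?_⟩
  · have : (MulAction.toPerm k : Perm Ω) a = (g : Perm Ω) a := by rw [hk]
    exact this.trans hg1
  · have : (MulAction.toPerm k : Perm Ω) b = (g : Perm Ω) b := by rw [hk]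
    exact this.trans hg2

/-- number of cycles of a permutation of prime order -/
theorem card_cycleFactors {x : Perm Ω} {p q : ℕ} (hp : p.Prime) (hx : orderOf x = p) (hs : x.support.card = q * p) :
    x.cycleFactorsFinset.card = q := by
  obtain ⟨n, hn⟩ := cycleType_prime_order (σ := x) (by rw [hx]; exact hp)
  have h1 := sum_cycleType x
  rw [hn, Multiset.sum_replicate, hx, hs, smul_eq_mul] at h1
  have h2 : n + 1 = q := Nat.eq_of_mul_eq_mul_right hp.pos h1
  have h3 : Multiset.card x.cycleType = n + 1 := by rw [hn, Multiset.card_replicate]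
  rw [← h2, ← h3, cycleType_def, Multiset.card_map]
  rfl

/-- the kernel of the centralizer of `x` on the set of cycles of `x` has exponent `p` outside the fixed points -/
theorem pow_eq_of_ker {x : Perm Ω} {p : ℕ} (hx : orderOf x = p) (k : Subgroup.centralizer {x})
    (hk : k ∈ (OnCycleFactors.toPermHom x).ker) (a : Ω) (ha : x a ≠ a) : ((k : Perm Ω) ^ p) a = a := by
  rw [OnCycleFactors.mem_ker_toPermHom_iff] at hk
  have h1 : Commute (k : Perm Ω) (x.cycleOf a) := hk _ (cycleOf_mem_cycleFactorsFinset_iff.2 (mem_support.2 ha))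
  have hkx : Commute (k : Perm Ω) x := Subgroup.mem_centralizer_singleton_iff.1 k.2
  -- `k a` lies in the cycle of `a`
  have h2 : x.cycleOf a ((k : Perm Ω) a) ≠ (k : Perm Ω) a := by
    intro h
    have h3 : (k : Perm Ω) (x.cycleOf a a) = (k : Perm Ω) a := by
      have := congrArg (fun g : Perm Ω => g a) h1.eq
      simp only [Perm.mul_apply] at this
      rw [this, h]
    have h4 := (k : Perm Ω).injective h3
    rw [cycleOf_apply_self] at h4
    exact ha h4
  have h3 : SameCycle x a ((k : Perm Ω) a) := by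
    by_contra h
    exact h2 (cycleOf_apply_of_not_sameCycle h)
  obtain ⟨i, hi⟩ := h3
  have h4 : ∀ n : ℕ, ((k : Perm Ω) ^ n) a = (x ^ (i * n)) a := by
    intro n
    induction n with
    | zero => simp
    | succ n ih =>
      rw [pow_succ', Perm.mul_apply, ih]
      have h5 : Commute (k : Perm Ω) (x ^ (i * n)) := hkx.zpow_right _
      have h6 := congrArg (fun g : Perm Ω => g a) h5.eq
      simp only [Perm.mul_apply] at h6
      rw [h6, ← hi, ← Perm.mul_apply, ← zpow_add]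
      congr 2
      push_cast
      ring
  rw [h4, mul_comm, zpow_mul, zpow_natCast, ← hx, pow_orderOf_eq_one, one_zpow, Perm.one_apply]

end

section

variable {Ω : Type u} [Fintype Ω] [DecidableEq Ω] {p q : ℕ} {K : Subgroup (Perm Ω)}

theorem apply_inv (n : Perm Ω) (c : Ω) : n (n⁻¹ c) = c := n.apply_symm_apply c

theorem inv_apply (n : Perm Ω) (c : Ω) : n⁻¹ (n c) = c := n.symm_apply_apply c

omit [DecidableEq Ω] in
theorem mem_orb {a b c : Ω} : c ∈ orb p K a b ↔ ∃ m ∈ M p K a, m b = c := by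
  classical
  unfold orb
  simp only [Finset.mem_filter, Finset.mem_univ, true_and]

theorem M_le (a : Ω) : M p K a ≤ K := by
  rw [M, Subgroup.closure_le]
  exact fun x hx => hx.1

theorem M_fix {a : Ω} {m : Perm Ω} (hm : m ∈ M p K a) : m a = a := by
  have h1 : M p K a ≤ stabilizer (Perm Ω) a := by
    rw [M, Subgroup.closure_le]
    exact fun x hx => hx.2.2
  exact h1 hm

theorem zpowers_fix {x y : Perm Ω} (hy : y ∈ Subgroup.zpowers x) {a : Ω} (ha : x a = a) : y a = a := by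
  have h1 : Subgroup.zpowers x ≤ stabilizer (Perm Ω) a := by
    rw [Subgroup.zpowers_le]
    exact ha
  exact h1 hy

theorem mem_norm {x n : Perm Ω} (h : n * x * n⁻¹ ∈ Subgroup.zpowers x) :
    n ∈ Subgroup.normalizer (Subgroup.zpowers x : Set (Perm Ω)) := by
  apply Subgroup.mem_normalizer_fintype
  rintro y ⟨i, rfl⟩
  have h1 : n * x ^ i * n⁻¹ = (n * x * n⁻¹) ^ i := by rw [conj_zpow]
  show n * x ^ i * n⁻¹ ∈ Subgroup.zpowers x
  rw [h1]
  exact Subgroup.zpow_mem _ h i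

/-- (PF), with `exists_normalizer` as a hypothesis. -/
theorem prime_fix_of (h : Setup p q K)
    (hEN : ∀ (H : Subgroup (Perm Ω)), H ≤ K → ∀ x ∈ H, orderOf x = p → ∀ b : Ω, x b = b → ∀ k ∈ H,
      x (k b) = k b → ∃ n ∈ H, n b = k b ∧ n * x * n⁻¹ ∈ Subgroup.zpowers x)
    (hf : (Fintype.card Ω - q * p).Prime) (hqf : q < Fintype.card Ω - q * p)
    (h2f : 2 * (Fintype.card Ω - q * p) < Fintype.card Ω) (a b : Ω) (hab : b ≠ a) (x : Perm Ω) (hx : x ∈ K)
    (hxp : orderOf x = p) (hxa : x a = a) (hfx : fx x (orb p K a b) = 2) : False := by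
  have hp := h.prime
  -- the fixed points
  obtain ⟨X, hX⟩ : ∃ X : Set Ω, X = {a | x a = a} := ⟨_, rfl⟩
  have hmX : ∀ a, a ∈ X ↔ x a = a := fun a => by rw [hX]; rfl
  have hXc : X.ncard = Fintype.card Ω - q * p := by
    have h1 : X = ↑(x.supportᶜ) := by
      ext c
      rw [hmX, Finset.mem_coe, Finset.mem_compl, mem_support, not_not]
    rw [h1, Set.ncard_coe_finset, Finset.card_compl, h.supp x hx hxp]
  rw [← hXc] at hf hqf h2f
  -- the normaliser
  obtain ⟨N, hN⟩ : ∃ N : Subgroup (Perm Ω), N = K ⊓ Subgroup.normalizer (Subgroup.zpowers x : Set (Perm Ω)) := ⟨_, rfl⟩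
  have hmN : ∀ n, n ∈ K → n * x * n⁻¹ ∈ Subgroup.zpowers x → n ∈ N := by
    intro n h1 h2
    rw [hN]
    exact ⟨h1, mem_norm h2⟩
  have hNK : N ≤ K := by rw [hN]; exact inf_le_left
  have hNn : ∀ n ∈ N, n * x * n⁻¹ ∈ Subgroup.zpowers x := by
    intro n hn
    rw [hN] at hn
    exact (Subgroup.mem_normalizer_iff.1 hn.2 x).1 (Subgroup.mem_zpowers x)
  have hNX : ∀ n ∈ N, ∀ a ∈ X, n a ∈ X := by
    intro n hn c hc
    have h1 := hNn n⁻¹ (N.inv_mem hn)
    have h2 := zpowers_fix h1 ((hmX c).1 hc)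
    rw [hmX]
    rw [inv_inv, Perm.mul_apply, Perm.mul_apply] at h2
    have h3 := congrArg n h2
    rwa [apply_inv] at h3
  have htr : ∀ a ∈ X, ∀ b ∈ X, ∃ n ∈ N, n a = b := by
    intro c hc d hd
    have := h.prim
    obtain ⟨k, hk⟩ := exists_smul_eq K c d
    have hk' : (k : Perm Ω) c = d := hk
    obtain ⟨n, hn, h1, h2⟩ := hEN K le_rfl x hx hxp c ((hmX c).1 hc) k k.2 (by rw [hk']; exact (hmX d).1 hd)
    exact ⟨n, hmN n hn h2, h1.trans hk'⟩
  -- the pointwise stabilizer of the support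
  obtain ⟨Z, hZ⟩ : ∃ Z : Subgroup (Perm Ω), Z = K ⊓ ⨅ c : {c : Ω // x c ≠ c}, stabilizer (Perm Ω) (c : Ω) := ⟨_, rfl⟩
  have hmZ : ∀ z, z ∈ Z ↔ z ∈ K ∧ ∀ c, x c ≠ c → z c = c := by
    intro z
    rw [hZ, Subgroup.mem_inf, Subgroup.mem_iInf]
    constructor
    · rintro ⟨h1, h2⟩
      exact ⟨h1, fun c hc => h2 ⟨c, hc⟩⟩
    · rintro ⟨h1, h2⟩
      exact ⟨h1, fun c => h2 c c.2⟩
  have hZN : Z ≤ N := by
    intro z hz
    obtain ⟨h1, h2⟩ := (hmZ z).1 hz
    refine hmN z h1 ?_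
    have h3 : z * x * z⁻¹ = x := by
      rw [mul_inv_eq_iff_eq_mul]
      ext c
      rw [Perm.mul_apply, Perm.mul_apply]
      by_cases hc : x c = c
      · rw [hc]
        by_cases hzc : x (z c) = z c
        · exact hzc.symm
        · have h4 := h2 (z c) hzc
          have h5 : z c = c := z.injective h4
          rw [h5] at hzc
          exact absurd hc hzc
      · rw [h2 c hc]
        exact h2 (x c) (fun h4 => hc (x.injective h4))
    rw [h3]
    exact Subgroup.mem_zpowers x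
  have hZn : ∀ n ∈ N, ∀ z ∈ Z, n * z * n⁻¹ ∈ Z := by
    intro n hn z hz
    obtain ⟨h1, h2⟩ := (hmZ z).1 hz
    rw [hmZ]
    refine ⟨K.mul_mem (K.mul_mem (hNK hn) h1) (K.inv_mem (hNK hn)), fun c hc => ?_⟩
    rw [Perm.mul_apply, Perm.mul_apply, h2 (n⁻¹ c), apply_inv]
    intro h3
    apply hc
    have h4 := hNX n hn _ ((hmX _).2 h3)
    rw [apply_inv] at h4
    exact (hmX c).1 h4
  rcases trivial_or_trans N Z X hf hNX htr hZN hZn with hZt | hZt
  swap
  · exact h.not2 (two_of_jordan K h.prim X hf.one_lt h2f Z (hZN.trans hNK)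
      (fun z hz c hc => ((hmZ z).1 hz).2 c (fun h1 => hc ((hmX c).2 h1))) hZt)
  have hZ1 : ∀ z, z ∈ K → (∀ c, x c ≠ c → z c = c) → z = 1 := by
    intro z h1 h2
    ext c
    by_cases hc : x c = c
    · exact hZt z ((hmZ z).2 ⟨h1, h2⟩) c ((hmX c).2 hc)
    · exact h2 c hc
  -- the centralizer
  obtain ⟨C, hC⟩ : ∃ C : Subgroup (Perm Ω), C = K ⊓ Subgroup.centralizer {x} := ⟨_, rfl⟩
  have hmC : ∀ c, c ∈ C ↔ c ∈ K ∧ c * x = x * c := by
    intro c
    rw [hC, Subgroup.mem_inf, Subgroup.mem_centralizer_singleton_iff]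
  have hCN : C ≤ N := by
    intro c hc
    obtain ⟨h1, h2⟩ := (hmC c).1 hc
    refine hmN c h1 ?_
    rw [h2, mul_inv_cancel_right]
    exact Subgroup.mem_zpowers x
  have hCn : ∀ n ∈ N, ∀ c ∈ C, n * c * n⁻¹ ∈ C := by
    intro n hn c hc
    obtain ⟨h1, h2⟩ := (hmC c).1 hc
    rw [hmC]
    refine ⟨K.mul_mem (K.mul_mem (hNK hn) h1) (K.inv_mem (hNK hn)), ?_⟩
    obtain ⟨i, hi⟩ := hNn n⁻¹ (N.inv_mem hn)
    rw [inv_inv] at hi
    have h3 : c * x ^ i = x ^ i * c := (Commute.zpow_right (show Commute c x from h2) i).eq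
    have hi' : x ^ i = n⁻¹ * x * n := hi
    rw [hi'] at h3
    calc n * c * n⁻¹ * x = n * (c * (n⁻¹ * x * n)) * n⁻¹ := by group
      _ = n * ((n⁻¹ * x * n) * c) * n⁻¹ := by rw [h3]
      _ = x * (n * c * n⁻¹) := by group
  rcases trivial_or_trans N C X hf hNX htr hCN hCn with hCt | hCt
  swap
  · -- `C` is transitive on the fixed points
    have hι : C ≤ Subgroup.centralizer {x} := by rw [hC]; exact inf_le_right
    obtain ⟨ρ, hρ⟩ : ∃ ρ : C →* Perm x.cycleFactorsFinset,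
        ρ = (OnCycleFactors.toPermHom x).comp (Subgroup.inclusion hι) := ⟨_, rfl⟩
    have hpw : ∀ c ∈ ρ.ker, (c : Perm Ω) ^ p = 1 := by
      intro c hc
      refine hZ1 _ (K.pow_mem ((hmC c).1 c.2).1 p) fun d hd => ?_
      refine pow_eq_of_ker hxp (Subgroup.inclusion hι c) ?_ d hd
      rw [hρ] at hc
      exact hc
    have hT : (ρ.ker.map C.subtype) = Subgroup.zpowers x := by
      have hpg : IsPGroup p (ρ.ker.map C.subtype) := by
        rintro ⟨_, c, hc, rfl⟩
        exact ⟨1, Subtype.ext (by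
          rw [pow_one]
          exact hpw c hc)⟩
      have hfp : Fact p.Prime := ⟨hp⟩
      obtain ⟨k, hk⟩ := IsPGroup.iff_card.1 hpg
      have hle : ρ.ker.map C.subtype ≤ K := by
        rintro _ ⟨c, hc, rfl⟩
        exact ((hmC c).1 c.2).1
      have hk1 : k ≤ 1 := by
        by_contra hk2
        apply h.sylow
        have h1 : p ^ k ∣ Nat.card K := by
          rw [← hk]
          exact Subgroup.card_dvd_of_le hle
        exact (pow_dvd_pow p (by omega : 2 ≤ k)).trans h1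
      have hxT : x ∈ ρ.ker.map C.subtype := by
        refine ⟨⟨x, (hmC x).2 ⟨hx, rfl⟩⟩, ?_, rfl⟩
        show ρ _ = 1
        rw [hρ]
        show _ ∈ (OnCycleFactors.toPermHom x).ker
        rw [OnCycleFactors.mem_ker_toPermHom_iff]
        intro c hc
        exact (self_mem_cycle_factors_commute hc).symm
      symm
      apply Subgroup.eq_of_le_of_card_ge (Subgroup.zpowers_le.2 hxT)
      rw [hk, Nat.card_zpowers, hxp]
      calc p ^ k ≤ p ^ 1 := Nat.pow_le_pow_right hp.pos hk1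
        _ = p := pow_one p
    have haX : a ∈ X := (hmX a).2 hxa
    have h1 : ρ.ker ≤ stabilizer C a := by
      intro c hc
      have h2 : (c : Perm Ω) ∈ Subgroup.zpowers x := by
        rw [← hT]
        exact ⟨c, hc, rfl⟩
      exact zpowers_fix h2 hxa
    have h2 : (stabilizer C a).index = X.ncard := by
      rw [index_stabilizer]
      congr 1
      ext c
      constructor
      · rintro ⟨y, rfl⟩
        exact hNX y (hCN y.2) a haX
      · intro hc
        obtain ⟨y, hy, hyc⟩ := hCt a haX c hc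
        exact ⟨⟨y, hy⟩, hyc⟩
    have h3 := Subgroup.index_dvd_of_le h1
    rw [h2, Subgroup.index_ker] at h3
    have h4 := h3.trans (Subgroup.card_subgroup_dvd_card ρ.range)
    rw [Nat.card_perm, Nat.card_eq_fintype_card, Fintype.card_coe,
      card_cycleFactors hp hxp (h.supp x hx hxp), hf.dvd_factorial] at h4
    omega
  -- `N` is abelian on the fixed points
  have hreg : ∀ n ∈ N, n a = a → ∀ c ∈ X, n c = c := by
    intro n hn hna c hc
    have haX : a ∈ X := (hmX a).2 hxa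
    obtain ⟨m, hm, hmc⟩ := htr a haX c hc
    obtain ⟨i, hi⟩ := hNn n hn
    obtain ⟨j, hj⟩ := hNn m hm
    have hi' : n * x * n⁻¹ = x ^ i := hi.symm
    have hj' : m * x * m⁻¹ = x ^ j := hj.symm
    have e1 : (n * m) * x * (n * m)⁻¹ = x ^ (i * j) := by
      calc (n * m) * x * (n * m)⁻¹ = n * (m * x * m⁻¹) * n⁻¹ := by group
        _ = n * x ^ j * n⁻¹ := by rw [hj']
        _ = (n * x * n⁻¹) ^ j := by rw [conj_zpow]
        _ = _ := by rw [hi', zpow_mul]
    have e2 : (m * n) * x * (m * n)⁻¹ = x ^ (i * j) := by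
      calc (m * n) * x * (m * n)⁻¹ = m * (n * x * n⁻¹) * m⁻¹ := by group
        _ = m * x ^ i * m⁻¹ := by rw [hi']
        _ = (m * x * m⁻¹) ^ i := by rw [conj_zpow]
        _ = _ := by rw [hj', ← zpow_mul, mul_comm j i]
    have hw : (m * n)⁻¹ * (n * m) ∈ C := by
      rw [hmC]
      refine ⟨K.mul_mem (K.inv_mem (K.mul_mem (hNK hm) (hNK hn))) (K.mul_mem (hNK hn) (hNK hm)), ?_⟩
      have e3 := e1.trans e2.symm
      calc (m * n)⁻¹ * (n * m) * x = (m * n)⁻¹ * ((n * m) * x * (n * m)⁻¹) * (n * m) := by group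
        _ = (m * n)⁻¹ * ((m * n) * x * (m * n)⁻¹) * (n * m) := by rw [e3]
        _ = x * ((m * n)⁻¹ * (n * m)) := by group
    have h1 := hCt _ hw a haX
    rw [Perm.mul_apply, Perm.inv_eq_iff_eq, Perm.mul_apply, Perm.mul_apply, hna, hmc] at h1
    exact h1
  -- the two fixed points in the orbit of `b`
  obtain ⟨c, d, hcd, hcd'⟩ := Finset.card_eq_two.1 hfx
  have hc : c ∈ (orb p K a b).filter (fun c => x c = c) := by rw [hcd']; simp
  have hd : d ∈ (orb p K a b).filter (fun c => x c = c) := by rw [hcd']; simp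
  rw [Finset.mem_filter, mem_orb] at hc hd
  obtain ⟨⟨m1, hm1, e1⟩, hc⟩ := hc
  obtain ⟨⟨m2, hm2, e2⟩, hd⟩ := hd
  have hk : (m2 * m1⁻¹) c = d := by
    rw [← e1, Perm.mul_apply, inv_apply, e2]
  have hxM : x ∈ M p K a := Subgroup.subset_closure ⟨hx, hxp, hxa⟩
  obtain ⟨n, hn, h1, h2⟩ := hEN (M p K a) (M_le a) x hxM hxp c hc (m2 * m1⁻¹)
    ((M p K a).mul_mem hm2 ((M p K a).inv_mem hm1)) (by rw [hk]; exact hd)
  rw [hk] at h1
  have h3 := hreg n (hmN n (M_le a hn) h2) (M_fix hn) c ((hmX c).2 hc)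
  exact hcd (h3.symm.trans h1)

/-- two elements of order `p` of a group whose order is not divisible by `p ^ 2` generate conjugate subgroups -/
theorem exists_conj_zpowers {G : Type*} [Group G] [Finite G] (hp : p.Prime) (hG : ¬ p ^ 2 ∣ Nat.card G) (x y : G)
    (hx : orderOf x = p) (hy : orderOf y = p) : ∃ g : G, g * y * g⁻¹ ∈ Subgroup.zpowers x := by
  have hfp : Fact p.Prime := ⟨hp⟩
  have h1 : (Nat.card G).factorization p = 1 := by
    have h2 : p ∣ Nat.card G := hx ▸ orderOf_dvd_natCard x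
    have h3 : 1 ≤ (Nat.card G).factorization p :=
      (hp.dvd_iff_one_le_factorization Nat.card_pos.ne').1 h2
    have h4 : ¬ 2 ≤ (Nat.card G).factorization p := by
      rw [← hp.pow_dvd_iff_le_factorization Nat.card_pos.ne']
      exact hG
    omega
  let P : Sylow p G := Sylow.ofCard (Subgroup.zpowers x) (by rw [Nat.card_zpowers, hx, h1, pow_one])
  let Q : Sylow p G := Sylow.ofCard (Subgroup.zpowers y) (by rw [Nat.card_zpowers, hy, h1, pow_one])
  obtain ⟨g, hg⟩ := MulAction.exists_smul_eq G Q P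
  refine ⟨g, ?_⟩
  have h2 : g * y * g⁻¹ ∈ ((g • Q : Sylow p G) : Subgroup G) := by
    rw [Sylow.smul_def, Sylow.pointwise_smul_def]
    exact ⟨y, Subgroup.mem_zpowers y, rfl⟩
  rw [hg] at h2
  exact h2

theorem exists_normalizer (h : Setup p q K) (H : Subgroup (Perm Ω)) (hH : H ≤ K) (x : Perm Ω) (hx : x ∈ H)
    (hxp : orderOf x = p) (b : Ω) (hb : x b = b) (k : Perm Ω) (hk : k ∈ H) (hkb : x (k b) = k b) :
    ∃ n ∈ H, n b = k b ∧ n * x * n⁻¹ ∈ Subgroup.zpowers x := by
  have hle : H ⊓ stabilizer (Perm Ω) b ≤ K := inf_le_left.trans hH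
  have hx' : x ∈ H ⊓ stabilizer (Perm Ω) b := ⟨hx, hb⟩
  have hy' : k⁻¹ * x * k ∈ H ⊓ stabilizer (Perm Ω) b := by
    refine ⟨H.mul_mem (H.mul_mem (H.inv_mem hk) hx) hk, ?_⟩
    show (k⁻¹ * x * k) b = b
    rw [Perm.mul_apply, Perm.mul_apply, hkb, inv_apply]
  have hyp : orderOf (k⁻¹ * x * k) = p := by
    have h1 := orderOf_injective (MulAut.conj k⁻¹).toMonoidHom (MulAut.conj k⁻¹).injective x
    rw [hxp] at h1
    have e : (MulAut.conj k⁻¹).toMonoidHom x = k⁻¹ * x * k := by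
      show k⁻¹ * x * k⁻¹⁻¹ = _
      rw [inv_inv]
    rwa [e] at h1
  obtain ⟨g, hg⟩ := exists_conj_zpowers (G := ↥(H ⊓ stabilizer (Perm Ω) b)) h.prime
    (fun h1 => h.sylow (h1.trans (Subgroup.card_dvd_of_le hle))) ⟨k⁻¹ * x * k, hy'⟩ ⟨x, hx'⟩
    (by rw [Subgroup.orderOf_mk]; exact hyp) (by rw [Subgroup.orderOf_mk]; exact hxp)
  obtain ⟨i, hi⟩ := hg
  have h1 : (k⁻¹ * x * k) ^ i = g * x * (g : Perm Ω)⁻¹ := congrArg Subtype.val hi
  refine ⟨k * g, H.mul_mem hk g.2.1, ?_, i, ?_⟩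
  · rw [Perm.mul_apply]
    exact congrArg k g.2.2
  · show x ^ i = k * g * x * (k * g)⁻¹
    calc x ^ i = k * (k⁻¹ * x * k) ^ i * k⁻¹ := by
          have h2 : (k⁻¹ * x * k) ^ i = k⁻¹ * x ^ i * k := by
            have := conj_zpow (i := i) (a := k⁻¹) (b := x)
            rwa [inv_inv] at this
          rw [h2]; group
      _ = k * (g * x * (g : Perm Ω)⁻¹) * k⁻¹ := by rw [h1]
      _ = _ := by group

/-- **(PF)** -/
theorem prime_fix (h : Setup p q K) (hf : (Fintype.card Ω - q * p).Prime) (hqf : q < Fintype.card Ω - q * p)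
    (h2f : 2 * (Fintype.card Ω - q * p) < Fintype.card Ω) (a b : Ω) (hab : b ≠ a) (x : Perm Ω) (hx : x ∈ K)
    (hxp : orderOf x = p) (hxa : x a = a) (hfx : fx x (orb p K a b) = 2) : False :=
  prime_fix_of h (fun H hH x hx hxp b hb k hk hkb => exists_normalizer h H hH x hx hxp b hb k hk hkb) hf hqf h2f a b hab
    x hx hxp hxa hfx

end

end Cfsg.Agent.H805.PrA
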